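import Mathlib
import Cfsg.Prelude.Def_Transfer
import Cfsg.Prelude.Def_CaseTheorems
import Cfsg.Agent.H51.Mult

/-!
# S2243: elementary abelian 2-subgroups meeting every class of involutions (helper277)

* `EM G` : some elementary abelian 2-subgroup of `G` meets every class of involutions;
* `CRow S` : every finite perfect central extension of `S` by a 2-group has `EM` (this is what a family has to prove);
* `CRow.of_noCov` : `S` perfect with no double cover and `EM S` give `CRow S`;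
* `Lft π t` : the involution `t` of `S` lifts to an involution (or 1) of `L`;
* tools for covers: `em_of_lift`, `em_of_all_lift`, `em_of_one`, `comm_of_commutator`, `lft_of_four`;
* tools: `em_of_central` (a 2-central class is free), `em_of_two_classes`, `crow_of_two_classes`.
-/

set_option autoImplicit false

namespace Cfsg.Agent.H277.MI

open Subgroup Cfsg.Agent.H51.Mult
open scoped commutatorElement

universe u v w

/-- `G` has an elementary abelian 2-subgroup which meets every class of involutions -/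
def EM (G : Type u) [Group G] : Prop :=
  ∃ E : Subgroup G, Cfsg.IsElementaryAbelian 2 E ∧ ∀ t : G, orderOf t = 2 → ∃ g : G, g * t * g⁻¹ ∈ E

/-- **What a family has to prove**: all finite perfect central extensions by a 2-group have `EM`. -/
def CRow (S : Type v) [Group S] : Prop :=
  ∀ (L : Type) [Group L] [Finite L] (π : L →* S), PCE π → IsPGroup 2 π.ker → EM L

/-- `t` lifts to an element of square one -/
def Lft {L : Type u} {S : Type v} [Group L] [Group S] (π : L →* S) (t : S) : Prop := ∃ y : L, π y = t ∧ y * y = 1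

section basic

variable {G : Type u} {H : Type v} [Group G] [Group H]

theorem isEl_of_sq {E : Subgroup G} (h : ∀ x ∈ E, x * x = 1) : Cfsg.IsElementaryAbelian 2 E := by
  refine ⟨⟨⟨fun a b => Subtype.ext ?_⟩⟩, fun a ha => by rw [pow_two, h a ha]⟩
  have h1 := h a a.2
  have h2 := h b b.2
  have h3 := h _ (mul_mem a.2 b.2)
  show (a : G) * b = b * a
  have h4 : (a : G)⁻¹ = a := inv_eq_of_mul_eq_one_left h1
  have h5 : (b : G)⁻¹ = b := inv_eq_of_mul_eq_one_left h2
  have h6 : ((a : G) * b)⁻¹ = a * b := inv_eq_of_mul_eq_one_left h3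
  rw [← h6, mul_inv_rev, h4, h5]

theorem IsEl.sq {E : Subgroup G} (h : Cfsg.IsElementaryAbelian 2 E) {x : G} (hx : x ∈ E) : x * x = 1 := by
  rw [← pow_two]; exact h.2 x hx

theorem IsEl.comm {E : Subgroup G} (h : Cfsg.IsElementaryAbelian 2 E) {x y : G} (hx : x ∈ E) (hy : y ∈ E) :
    x * y = y * x :=
  congrArg Subtype.val (h.1.is_comm.comm ⟨x, hx⟩ ⟨y, hy⟩)

theorem sq_of_orderOf {x : G} (hx : orderOf x = 2) : x * x = 1 := by rw [← pow_two, ← hx, pow_orderOf_eq_one]

theorem ne_one_of_orderOf {x : G} (hx : orderOf x = 2) : x ≠ 1 := by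
  rintro rfl
  rw [orderOf_one] at hx
  omega

theorem orderOf_two {x : G} (h1 : x ≠ 1) (h2 : x * x = 1) : orderOf x = 2 := by
  have : Fact (Nat.Prime 2) := ⟨Nat.prime_two⟩
  exact orderOf_eq_prime (by rw [pow_two, h2]) h1

theorem orderOf_conj {x : G} (g : G) (hx : orderOf x = 2) : orderOf (g * x * g⁻¹) = 2 := by
  refine orderOf_two ?_ ?_
  · intro h
    apply ne_one_of_orderOf hx
    have h1 : g⁻¹ * (g * x * g⁻¹) * g = 1 := by rw [h, mul_one, inv_mul_cancel]
    rw [← h1]; group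
  · rw [show g * x * g⁻¹ * (g * x * g⁻¹) = g * (x * x) * g⁻¹ by group, sq_of_orderOf hx, mul_one, mul_inv_cancel]

/-- a simpler form of `EM` -/
theorem em_iff : EM G ↔ ∃ E : Subgroup G, (∀ x ∈ E, x * x = 1) ∧ ∀ t : G, orderOf t = 2 → ∃ g : G, g * t * g⁻¹ ∈ E :=
  ⟨fun ⟨E, h, h'⟩ => ⟨E, fun _ hx => IsEl.sq h hx, h'⟩, fun ⟨E, h, h'⟩ => ⟨E, isEl_of_sq h, h'⟩⟩

/-- from a list of commuting involutions -/
theorem em_of_commuting (s : Set G) (hs : ∀ x ∈ s, x * x = 1) (hc : ∀ x ∈ s, ∀ y ∈ s, x * y = y * x)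
    (h : ∀ t : G, orderOf t = 2 → ∃ g : G, g * t * g⁻¹ ∈ closure s) : EM G := by
  refine em_iff.2 ⟨closure s, ?_, h⟩
  have hcc : ∀ x ∈ closure s, ∀ y ∈ closure s, x * y = y * x := by
    intro x hx y hy
    have h1 : closure s ≤ centralizer (closure s : Set G) := by
      rw [closure_le]
      intro a ha
      rw [SetLike.mem_coe, mem_centralizer_iff]
      intro b hb
      have h2 : closure s ≤ centralizer ({a} : Set G) := by
        rw [closure_le]
        intro c hc'
        rw [SetLike.mem_coe, mem_centralizer_singleton_iff]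
        exact hc c hc' a ha
      exact mem_centralizer_singleton_iff.1 (h2 hb)
    exact ((mem_centralizer_iff.1 (h1 hx)) y hy).symm
  intro x hx
  induction hx using closure_induction with
  | mem x hx => exact hs x hx
  | one => exact mul_one 1
  | mul x y hx hy h1 h2 =>
    rw [show x * y * (x * y) = x * (y * x) * y by group, hcc y hy x hx, show x * (x * y) * y = x * x * (y * y) by group,
      h1, h2, mul_one]
  | inv x _ h1 => rw [← mul_inv_rev, h1, inv_one]

theorem EM.congr (e : G ≃* H) (h : EM H) : EM G := by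
  obtain ⟨E, h1, h2⟩ := em_iff.1 h
  refine em_iff.2 ⟨E.comap e.toMonoidHom, fun x hx => ?_, fun t ht => ?_⟩
  · apply e.injective
    rw [map_mul, map_one]
    exact h1 _ hx
  · obtain ⟨g, hg⟩ := h2 (e t) (by rw [MulEquiv.orderOf_eq]; exact ht)
    refine ⟨e.symm g, ?_⟩
    rw [mem_comap]
    show e (e.symm g * t * (e.symm g)⁻¹) ∈ E
    rwa [map_mul, map_mul, map_inv, e.apply_symm_apply]

/-- **One class.** -/
theorem em_of_one_class (h : ∀ x y : G, orderOf x = 2 → orderOf y = 2 → IsConj x y) : EM G := by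
  by_cases h0 : ∃ x : G, orderOf x = 2
  · obtain ⟨x, hx⟩ := h0
    refine em_of_commuting {x} ?_ ?_ ?_
    · rintro y rfl; exact sq_of_orderOf hx
    · rintro y rfl z rfl; rfl
    · intro t ht
      obtain ⟨g, hg⟩ := isConj_iff.1 (h t x ht hx)
      exact ⟨g, by rw [hg]; exact subset_closure rfl⟩
  · exact em_iff.2 ⟨⊥, by simp, fun t ht => absurd ⟨t, ht⟩ h0⟩

/-- A Sylow 2-subgroup contains a conjugate of every elementary abelian 2-subgroup. -/
theorem exists_conj_le [Finite G] (S : Sylow 2 G) {E : Subgroup G} (hE : ∀ x ∈ E, x * x = 1) :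
    ∃ g : G, ∀ x ∈ E, g * x * g⁻¹ ∈ (S : Subgroup G) := by
  have : Fact (Nat.Prime 2) := ⟨Nat.prime_two⟩
  have h1 : IsPGroup 2 E := fun x => ⟨1, Subtype.ext (by
    show (x : G) ^ 2 ^ 1 = 1
    rw [pow_one, pow_two, hE x x.2])⟩
  obtain ⟨T, hT⟩ := h1.exists_le_sylow
  obtain ⟨g, hg⟩ := MulAction.exists_smul_eq G T S
  refine ⟨g, fun x hx => ?_⟩
  have h2 : x ∈ (T : Subgroup G) := hT hx
  rw [← hg, Sylow.coe_subgroup_smul, Subgroup.mem_pointwise_smul_iff_inv_smul_mem, ← map_inv, MulAut.smul_def,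
    MulAut.conj_apply, inv_inv]
  rwa [show g⁻¹ * (g * x * g⁻¹) * g = x by group]

/-- **A 2-central class is free**: it is enough to meet the classes of the involutions which are not conjugate
to `z`, where `z` is an involution centralized by a Sylow 2-subgroup. -/
theorem em_of_central [Finite G] {z : G} (hz : z * z = 1) (S : Sylow 2 G) (hzS : ∀ s ∈ (S : Subgroup G), s * z = z * s)
    {E : Subgroup G} (hE : ∀ x ∈ E, x * x = 1)
    (h : ∀ t : G, orderOf t = 2 → ¬ IsConj t z → ∃ g : G, g * t * g⁻¹ ∈ E) : EM G := by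
  obtain ⟨g, hg⟩ := exists_conj_le S hE
  obtain ⟨s, hs⟩ : ∃ s : Set G, s = {y | y = z ∨ ∃ x ∈ E, y = g * x * g⁻¹} := ⟨_, rfl⟩
  refine em_of_commuting s ?_ ?_ ?_
  · rw [hs]
    rintro y (rfl | ⟨x, hx, rfl⟩)
    · exact hz
    · rw [show g * x * g⁻¹ * (g * x * g⁻¹) = g * (x * x) * g⁻¹ by group, hE x hx, mul_one, mul_inv_cancel]
  · rw [hs]
    rintro x (rfl | ⟨a, ha, rfl⟩) y (rfl | ⟨b, hb, rfl⟩)
    · rfl
    · exact (hzS _ (hg b hb)).symm
    · exact hzS _ (hg a ha)
    · have h1 := IsEl.comm (isEl_of_sq hE) ha hb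
      rw [show g * a * g⁻¹ * (g * b * g⁻¹) = g * (a * b) * g⁻¹ by group, h1]
      group
  · intro t ht
    by_cases h1 : IsConj t z
    · obtain ⟨k, hk⟩ := isConj_iff.1 h1
      exact ⟨k, by rw [hk, hs]; exact subset_closure (Or.inl rfl)⟩
    · obtain ⟨k, hk⟩ := h t ht h1
      refine ⟨g * k, ?_⟩
      rw [hs]
      refine subset_closure (Or.inr ⟨_, hk, by group⟩)

/-- there is an involution in the centre of a Sylow 2-subgroup -/
theorem exists_central [Finite G] {x : G} (hx : orderOf x = 2) (S : Sylow 2 G) :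
    ∃ z : G, orderOf z = 2 ∧ ∀ s ∈ (S : Subgroup G), s * z = z * s := by
  have h2 : 2 ∣ Nat.card G := hx ▸ orderOf_dvd_natCard x
  have hne : Nontrivial (S : Subgroup G) := by
    rw [Subgroup.nontrivial_iff_ne_bot]
    exact S.ne_bot_of_dvd_card h2
  have hp : Fact (Nat.Prime 2) := ⟨Nat.prime_two⟩
  have hc : Nontrivial (center (S : Subgroup G)) := S.isPGroup'.center_nontrivial
  have hc2 : 2 ∣ Nat.card (center (S : Subgroup G)) := by
    have h3 : IsPGroup 2 (center (S : Subgroup G)) := S.isPGroup'.to_subgroup _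
    obtain ⟨n, hn⟩ := (IsPGroup.iff_card).1 h3
    rcases n with _ | n
    · rw [pow_zero] at hn
      have := Finite.one_lt_card (α := center (S : Subgroup G))
      omega
    · rw [hn, pow_succ]; exact dvd_mul_left _ _
  obtain ⟨⟨⟨z, hzS⟩, hzc⟩, hz⟩ := exists_prime_orderOf_dvd_card' 2 hc2
  refine ⟨z, ?_, ?_⟩
  · rw [← hz, ← orderOf_coe, ← orderOf_coe]
  · intro s hs
    have h4 := mem_center_iff.1 hzc ⟨s, hs⟩
    exact congrArg Subtype.val h4

/-- **At most two classes of involutions.** -/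
theorem em_of_two_classes [Finite G] (a b : G) (h : ∀ t : G, orderOf t = 2 → IsConj t a ∨ IsConj t b) : EM G := by
  by_cases h0 : ∃ x : G, orderOf x = 2
  · obtain ⟨x, hx⟩ := h0
    obtain ⟨S⟩ : Nonempty (Sylow 2 G) := inferInstance
    obtain ⟨z, hz, hzS⟩ := exists_central hx S
    by_cases h1 : ∃ t : G, orderOf t = 2 ∧ ¬ IsConj t z
    · obtain ⟨t, ht, htz⟩ := h1
      have htt := sq_of_orderOf ht
      refine em_of_central (sq_of_orderOf hz) S hzS (E := zpowers t) ?_ ?_
      · intro x hx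
        obtain ⟨k, rfl⟩ := mem_zpowers_iff.1 hx
        rw [← (Commute.refl t).mul_zpow, htt, one_zpow]
      · intro r hr hrz
        have h5 : IsConj r t := by
          rcases h r hr with h3 | h3 <;> rcases h t ht with h4 | h4 <;> rcases h z hz with h6 | h6
          · exact h3.trans h4.symm
          · exact h3.trans h4.symm
          · exact absurd (h3.trans h6.symm) hrz
          · exact absurd (h4.trans h6.symm) htz
          · exact absurd (h4.trans h6.symm) htz
          · exact absurd (h3.trans h6.symm) hrz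
          · exact h3.trans h4.symm
          · exact h3.trans h4.symm
        obtain ⟨g, hg⟩ := isConj_iff.1 h5
        exact ⟨g, by rw [hg]; exact mem_zpowers t⟩
    · push Not at h1
      exact em_of_one_class fun x y hx hy => (h1 x hx).trans (h1 y hy).symm
  · exact em_iff.2 ⟨⊥, by simp, fun t ht => absurd ⟨t, ht⟩ h0⟩

/-- **Odd central kernel.** -/
theorem em_of_odd_ker [Finite G] (f : G →* H) (hf : Function.Surjective f) (hc : f.ker ≤ center G)
    (hodd : Odd (Nat.card f.ker)) (h : EM H) : EM G := by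
  obtain ⟨E, h1, h2⟩ := em_iff.1 h
  have hk : ∀ z ∈ f.ker, z * z = 1 → z = 1 := by
    intro z hz hzz
    by_contra hne
    have h3 : orderOf (⟨z, hz⟩ : f.ker) = 2 := orderOf_two (fun h => hne (congrArg Subtype.val h)) (Subtype.ext hzz)
    have h4 := orderOf_dvd_natCard (⟨z, hz⟩ : f.ker)
    rw [h3] at h4
    exact (Nat.not_even_iff_odd.2 hodd) (even_iff_two_dvd.2 h4)
  -- elements of square one in the preimage commute with the preimage
  have hcm : ∀ x y : G, f x ∈ E → f y ∈ E → x * x = 1 → x * y = y * x := by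
    intro x y hx hy hxx
    have h3 : x * y * x⁻¹ * y⁻¹ ∈ f.ker := by
      rw [MonoidHom.mem_ker, map_mul, map_mul, map_mul, map_inv, map_inv, IsEl.comm (isEl_of_sq h1) hx hy]
      group
    have h4 := mem_center_iff.1 (hc h3)
    have h5 : (x * y * x⁻¹ * y⁻¹) * (x * y * x⁻¹ * y⁻¹) = 1 := by
      have h6 : x * (x * y * x⁻¹) * x⁻¹ = y := by
        rw [show x * (x * y * x⁻¹) * x⁻¹ = (x * x) * y * (x * x)⁻¹ by group, hxx]; group
      calc (x * y * x⁻¹ * y⁻¹) * (x * y * x⁻¹ * y⁻¹)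
          = x * ((x * y * x⁻¹ * y⁻¹) * (y * x⁻¹)) * y⁻¹ * 1 := by
            rw [← h4 (y * x⁻¹)]
            rw [show x * y * x⁻¹ * y⁻¹ * (x * y * x⁻¹ * y⁻¹) = (x * y * x⁻¹ * y⁻¹) * x * (y * x⁻¹) * y⁻¹ by group, ← h4 x]
            rw [show x * (x * y * x⁻¹ * y⁻¹) * (y * x⁻¹) * y⁻¹ = x * ((x * y * x⁻¹ * y⁻¹) * (y * x⁻¹)) * y⁻¹ * 1 by group,
              h4 (y * x⁻¹)]
        _ = (x * (x * y * x⁻¹) * x⁻¹) * y⁻¹ := by group
        _ = 1 := by rw [h6, mul_inv_cancel]
    have h7 := hk _ h3 h5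
    have h8 : x * y = (x * y * x⁻¹ * y⁻¹) * (y * x) := by group
    rw [h8, h7, one_mul]
  refine em_of_commuting {x | f x ∈ E ∧ x * x = 1} (fun x hx => hx.2) (fun x hx y hy => hcm x y hx.1 hy.1 hx.2) ?_
  intro t ht
  have htt := sq_of_orderOf ht
  have h3 : orderOf (f t) = 2 := by
    refine orderOf_two ?_ (by rw [← map_mul, htt, map_one])
    intro h3
    exact ne_one_of_orderOf ht (hk t h3 htt)
  obtain ⟨g, hg⟩ := h2 _ h3
  obtain ⟨k, rfl⟩ := hf g
  refine ⟨k, subset_closure ⟨?_, ?_⟩⟩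
  · rwa [map_mul, map_mul, map_inv]
  · rw [show k * t * k⁻¹ * (k * t * k⁻¹) = k * (t * t) * k⁻¹ by group, htt, mul_one, mul_inv_cancel]

end basic

section covers

variable {L : Type u} {S : Type v} [Group L] [Group S] {π : L →* S}

/-- **The lifting tool**: `E ≤ S` elementary abelian, all whose elements lift to elements of square one, meeting
all classes of involutions which lift. -/
theorem em_of_lift (hs : Function.Surjective π) (hc : π.ker ≤ center L) (h2 : ∀ z ∈ π.ker, z * z = 1)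
    (E : Subgroup S) (hE : ∀ e ∈ E, Lft π e)
    (h : ∀ t : S, orderOf t = 2 → Lft π t → ∃ g : S, g * t * g⁻¹ ∈ E) : EM L := by
  refine em_iff.2 ⟨E.comap π, ?_, ?_⟩
  · intro x hx
    obtain ⟨y, hy, hyy⟩ := hE _ hx
    have h3 : x * y⁻¹ ∈ π.ker := by rw [MonoidHom.mem_ker, map_mul, map_inv, hy, mul_inv_cancel]
    have h4 := mem_center_iff.1 (hc h3) y
    have h5 := h2 _ h3
    calc x * x = (x * y⁻¹) * (y * (x * y⁻¹)) * y := by group
      _ = (x * y⁻¹) * (x * y⁻¹) * (y * y) := by rw [h4]; group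
      _ = 1 := by rw [h5, hyy, mul_one]
  · intro t ht
    have htt := sq_of_orderOf ht
    by_cases h3 : π t = 1
    · exact ⟨1, by rw [one_mul, inv_one, mul_one, mem_comap, h3]; exact one_mem E⟩
    · obtain ⟨g, hg⟩ := h (π t) (orderOf_two h3 (by rw [← map_mul, htt, map_one])) ⟨t, rfl, htt⟩
      obtain ⟨k, rfl⟩ := hs g
      exact ⟨k, by rw [mem_comap, map_mul, map_mul, map_inv]; exact hg⟩

theorem Lft.conj (hs : Function.Surjective π) {t : S} (h : Lft π t) (g : S) : Lft π (g * t * g⁻¹) := by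
  obtain ⟨y, rfl, hy⟩ := h
  obtain ⟨k, rfl⟩ := hs g
  refine ⟨k * y * k⁻¹, by rw [map_mul, map_mul, map_inv], ?_⟩
  rw [show k * y * k⁻¹ * (k * y * k⁻¹) = k * (y * y) * k⁻¹ by group, hy, mul_one, mul_inv_cancel]

theorem Lft.isConj (hs : Function.Surjective π) {t t' : S} (h : Lft π t) (h' : IsConj t t') : Lft π t' := by
  obtain ⟨g, rfl⟩ := isConj_iff.1 h'
  exact h.conj hs g

theorem Lft.one : Lft π 1 := ⟨1, map_one _, mul_one _⟩

/-- **All involutions lift.** -/
theorem em_of_all_lift (hs : Function.Surjective π) (hc : π.ker ≤ center L) (h2 : ∀ z ∈ π.ker, z * z = 1)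
    (hl : ∀ t : S, orderOf t = 2 → Lft π t) (h : EM S) : EM L := by
  obtain ⟨E, h1, h3⟩ := em_iff.1 h
  refine em_of_lift hs hc h2 E (fun e he => ?_) (fun t ht _ => h3 t ht)
  by_cases h4 : e = 1
  · rw [h4]; exact Lft.one
  · exact hl e (orderOf_two h4 (h1 e he))

/-- **At most one class of involutions lifts** (any central kernel). -/
theorem em_of_one (hs : Function.Surjective π) (hc : π.ker ≤ center L)
    (h : ∀ t t' : S, orderOf t = 2 → orderOf t' = 2 → Lft π t → Lft π t' → IsConj t t') : EM L := by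
  by_cases h0 : ∃ y : L, y * y = 1 ∧ π y ≠ 1
  · obtain ⟨y, hy, hy1⟩ := h0
    have hyo : orderOf (π y) = 2 := orderOf_two hy1 (by rw [← map_mul, hy, map_one])
    refine em_of_commuting ({y} ∪ {z | z ∈ π.ker ∧ z * z = 1}) ?_ ?_ ?_
    · rintro x (hx | hx)
      · rw [Set.mem_singleton_iff.1 hx]; exact hy
      · exact hx.2
    · rintro x (hx | hx) w (hw | hw)
      · rw [Set.mem_singleton_iff.1 hx, Set.mem_singleton_iff.1 hw]
      · exact mem_center_iff.1 (hc hw.1) x
      · exact (mem_center_iff.1 (hc hx.1) w).symm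
      · exact (mem_center_iff.1 (hc hx.1) w).symm
    · intro t ht
      have htt := sq_of_orderOf ht
      by_cases h3 : π t = 1
      · exact ⟨1, by rw [one_mul, inv_one, mul_one]; exact subset_closure (Or.inr ⟨h3, htt⟩)⟩
      · obtain ⟨g, hg⟩ := isConj_iff.1 (h (π t) (π y) (orderOf_two h3 (by rw [← map_mul, htt, map_one])) hyo
          ⟨t, rfl, htt⟩ ⟨y, rfl, hy⟩)
        obtain ⟨k, rfl⟩ := hs g
        refine ⟨k, ?_⟩
        have h4 : k * t * k⁻¹ * y⁻¹ ∈ π.ker := by
          rw [MonoidHom.mem_ker, map_mul, map_mul, map_mul, map_inv, map_inv, hg, mul_inv_cancel]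
        have h5 : k * t * k⁻¹ * (k * t * k⁻¹) = 1 := by
          rw [show k * t * k⁻¹ * (k * t * k⁻¹) = k * (t * t) * k⁻¹ by group, htt, mul_one, mul_inv_cancel]
        have h6 : (k * t * k⁻¹ * y⁻¹) * (k * t * k⁻¹ * y⁻¹) = 1 := by
          have h7 := mem_center_iff.1 (hc h4) (k * t * k⁻¹)
          have hyi : y⁻¹ * y⁻¹ = 1 := by rw [← mul_inv_rev, hy, inv_one]
          calc (k * t * k⁻¹ * y⁻¹) * (k * t * k⁻¹ * y⁻¹) = ((k * t * k⁻¹ * y⁻¹) * (k * t * k⁻¹)) * y⁻¹ := by group
            _ = (k * t * k⁻¹ * (k * t * k⁻¹)) * (y⁻¹ * y⁻¹) := by rw [← h7]; group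
            _ = 1 := by rw [h5, hyi, mul_one]
        have h8 : k * t * k⁻¹ = (k * t * k⁻¹ * y⁻¹) * y := by group
        rw [h8]
        exact mul_mem (subset_closure (Or.inr ⟨h4, h6⟩)) (subset_closure (Or.inl rfl))
  · push Not at h0
    refine em_iff.2 ⟨closure {z | z ∈ π.ker ∧ z * z = 1}, ?_, ?_⟩
    · have hE : Cfsg.IsElementaryAbelian 2 (closure {z | z ∈ π.ker ∧ z * z = 1}) := by
        have hle : closure {z | z ∈ π.ker ∧ z * z = 1} ≤ center L := by
          rw [closure_le]; exact fun z hz => hc hz.1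
        apply isEl_of_sq
        intro x hx
        induction hx using closure_induction with
        | mem x hx => exact hx.2
        | one => exact mul_one 1
        | mul x y hx hy h1 h2 =>
          have h3 := mem_center_iff.1 (hle hx) y
          calc x * y * (x * y) = x * (y * x) * y := by group
            _ = (x * x) * (y * y) := by rw [h3]; group
            _ = 1 := by rw [h1, h2, mul_one]
        | inv x _ h1 => rw [← mul_inv_rev, h1, inv_one]
      exact fun x hx => IsEl.sq hE hx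
    · intro t ht
      exact ⟨1, by rw [one_mul, inv_one, mul_one]; exact subset_closure ⟨h0 t (sq_of_orderOf ht), sq_of_orderOf ht⟩⟩

/-- the commutator with a lift of a central element of `C` -/
theorem comm_of_commutator (hc : π.ker ≤ center L) {C : Subgroup S} {t : S} (ht : ∀ c ∈ C, c * t = t * c) {y x : L}
    (hy : π y = t) (hx : π x ∈ ⁅C, C⁆) (hs : Function.Surjective π) : x * y = y * x := by
  have key : ∀ s ∈ ⁅C, C⁆, ∃ x : L, π x = s ∧ x * y = y * x := by
    have h1 : ⁅C, C⁆ ≤ (centralizer ({y} : Set L)).map π := by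
      rw [commutator_le]
      intro a ha b hb
      obtain ⟨a', rfl⟩ := hs a
      obtain ⟨b', rfl⟩ := hs b
      refine ⟨⁅a', b'⁆, ?_, map_commutatorElement π a' b'⟩
      rw [SetLike.mem_coe, mem_centralizer_singleton_iff]
      have hA : ∃ z ∈ center L, a' * y = z * (y * a') := by
        have h2 : a' * y * (y * a')⁻¹ ∈ π.ker := by
          rw [MonoidHom.mem_ker, map_mul, map_inv, map_mul, map_mul, hy, ht _ ha, mul_inv_cancel]
        exact ⟨_, hc h2, by group⟩
      have hB : ∃ z ∈ center L, b' * y = z * (y * b') := by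
        have h2 : b' * y * (y * b')⁻¹ ∈ π.ker := by
          rw [MonoidHom.mem_ker, map_mul, map_inv, map_mul, map_mul, hy, ht _ hb, mul_inv_cancel]
        exact ⟨_, hc h2, by group⟩
      obtain ⟨z, hz, hz1⟩ := hA
      obtain ⟨w, hw, hw1⟩ := hB
      have hz2 := mem_center_iff.1 hz
      have hw2 := mem_center_iff.1 hw
      have ca : y * a' * y⁻¹ = z⁻¹ * a' := by
        have : a' = z * (y * a') * y⁻¹ := by rw [← hz1]; group
        calc y * a' * y⁻¹ = z⁻¹ * (z * (y * a') * y⁻¹) := by group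
          _ = z⁻¹ * a' := by rw [← this]
      have cb : y * b' * y⁻¹ = w⁻¹ * b' := by
        have : b' = w * (y * b') * y⁻¹ := by rw [← hw1]; group
        calc y * b' * y⁻¹ = w⁻¹ * (w * (y * b') * y⁻¹) := by group
          _ = w⁻¹ * b' := by rw [← this]
      have hzi : ∀ g, g * z⁻¹ = z⁻¹ * g := fun g => mem_center_iff.1 (inv_mem hz) g
      have hwi : ∀ g, g * w⁻¹ = w⁻¹ * g := fun g => mem_center_iff.1 (inv_mem hw) g
      have h5 : y * ⁅a', b'⁆ * y⁻¹ = ⁅a', b'⁆ := by
        have h6 : y * ⁅a', b'⁆ * y⁻¹ = ⁅y * a' * y⁻¹, y * b' * y⁻¹⁆ := by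
          rw [commutatorElement_def, commutatorElement_def]; group
        rw [h6, ca, cb, commutatorElement_def, commutatorElement_def, mul_inv_rev, mul_inv_rev, inv_inv, inv_inv]
        calc z⁻¹ * a' * (w⁻¹ * b') * (a'⁻¹ * z) * (b'⁻¹ * w)
            = z⁻¹ * (a' * w⁻¹) * b' * a'⁻¹ * z * b'⁻¹ * w := by group
          _ = z⁻¹ * w⁻¹ * (a' * b' * a'⁻¹ * z) * b'⁻¹ * w := by rw [hwi]; group
          _ = (z⁻¹ * w⁻¹ * z) * (a' * b' * a'⁻¹ * b'⁻¹ * w) := by rw [hz2]; group
          _ = (w⁻¹ * z⁻¹ * z) * (a' * b' * a'⁻¹ * b'⁻¹ * w) := by rw [← hzi]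
          _ = w⁻¹ * (a' * b' * a'⁻¹ * b'⁻¹ * w) := by group
          _ = w⁻¹ * (w * (a' * b' * a'⁻¹ * b'⁻¹)) := by rw [hw2]
          _ = a' * b' * a'⁻¹ * b'⁻¹ := by group
      have h7 : y * ⁅a', b'⁆ = ⁅a', b'⁆ * y := by
        calc y * ⁅a', b'⁆ = (y * ⁅a', b'⁆ * y⁻¹) * y := by group
          _ = _ := by rw [h5]
      exact h7.symm
    intro s hs'
    obtain ⟨x, hx, hxs⟩ := h1 hs'
    exact ⟨x, hxs, mem_centralizer_singleton_iff.1 hx⟩
  obtain ⟨x', hx', hxy⟩ := key _ hx
  have h2 : x * x'⁻¹ ∈ π.ker := by rw [MonoidHom.mem_ker, map_mul, map_inv, hx', mul_inv_cancel]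
  have h3 := mem_center_iff.1 (hc h2) y
  calc x * y = (x * x'⁻¹) * (x' * y) := by group
    _ = ((x * x'⁻¹) * y) * x' := by rw [hxy]; group
    _ = y * x := by rw [← h3]; group

end covers

end Cfsg.Agent.H277.MI
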