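import Mathlib
import Cfsg.Agent.H277.EM.Crow

/-!
# S2243: more tools for covers (helper277)

`π : L → S` a central extension whose kernel has exponent two.

* `lft_mul`: a product of two commuting involutions which lift lifts, if the second is in the commutator subgroup of a
  subgroup centralizing the first;
* `lft_of_four`: `a, b, a b` conjugate, `b ∈ ⁅C, C⁆`, `C` centralizes `a`: then `a` lifts;
* `lft_of_list`: an odd number of conjugates of `a` with commuting lifts and product one: then `a` lifts.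
-/

set_option autoImplicit false

namespace Cfsg.Agent.H277.MI

open Subgroup Cfsg.Agent.H51.Mult
open scoped commutatorElement

universe u v w

variable {L : Type u} {S : Type v} [Group L] [Group S] {π : L →* S}

theorem Lft.sq {t : S} (h : Lft π t) : t * t = 1 := by
  obtain ⟨y, rfl, hy⟩ := h
  rw [← map_mul, hy, map_one]

/-- every lift has square one -/
theorem Lft.all (hc : π.ker ≤ center L) (h2 : ∀ z ∈ π.ker, z * z = 1) {t : S} (h : Lft π t) {x : L} (hx : π x = t) :
    x * x = 1 := by
  obtain ⟨y, hy, hyy⟩ := h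
  have h3 : x * y⁻¹ ∈ π.ker := by rw [MonoidHom.mem_ker, map_mul, map_inv, hx, hy, mul_inv_cancel]
  have h4 := mem_center_iff.1 (hc h3) y
  calc x * x = (x * y⁻¹) * (y * (x * y⁻¹)) * y := by group
    _ = (x * y⁻¹) * (x * y⁻¹) * (y * y) := by rw [h4]; group
    _ = 1 := by rw [h2 _ h3, hyy, mul_one]

/-- the square of a lift depends only on the class -/
theorem sq_lift_eq (hs : Function.Surjective π) (hc : π.ker ≤ center L) (h2 : ∀ z ∈ π.ker, z * z = 1) {a b : S}
    (ha : a * a = 1) (hab : IsConj a b) {x y : L} (hx : π x = a) (hy : π y = b) : x * x = y * y := by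
  obtain ⟨g, hg⟩ := isConj_iff.1 hab
  obtain ⟨k, rfl⟩ := hs g
  have hzz : x * x ∈ center L := hc (by rw [MonoidHom.mem_ker, map_mul, hx, ha])
  have h3 : y * (k * x * k⁻¹)⁻¹ ∈ π.ker := by
    rw [MonoidHom.mem_ker, map_mul, map_inv, map_mul, map_mul, map_inv, hx, hg, hy, mul_inv_cancel]
  have h4 := mem_center_iff.1 (hc h3) (k * x * k⁻¹)
  have h5 : y * y = k * (x * x) * k⁻¹ := by
    calc y * y = (y * (k * x * k⁻¹)⁻¹) * ((k * x * k⁻¹) * (y * (k * x * k⁻¹)⁻¹)) * (k * x * k⁻¹) := by group
      _ = (y * (k * x * k⁻¹)⁻¹) * (y * (k * x * k⁻¹)⁻¹) * ((k * x * k⁻¹) * (k * x * k⁻¹)) := by rw [h4]; group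
      _ = k * (x * x) * k⁻¹ := by rw [h2 _ h3, one_mul]; group
  rw [h5, mem_center_iff.1 hzz k, mul_inv_cancel_right]

theorem Lft.mul_of_comm {a b : S} {x y : L} (hx : π x = a) (hy : π y = b) (hxx : x * x = 1) (hyy : y * y = 1)
    (hxy : x * y = y * x) : Lft π (a * b) :=
  ⟨x * y, by rw [map_mul, hx, hy], by
    rw [show x * y * (x * y) = x * (y * x) * y by group, ← hxy, show x * (x * y) * y = x * x * (y * y) by group, hxx,
      hyy, mul_one]⟩

theorem lft_mul (hs : Function.Surjective π) (hc : π.ker ≤ center L) {C : Subgroup S} {a b : S}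
    (ha : ∀ c ∈ C, c * a = a * c) (hb : b ∈ ⁅C, C⁆) (h1 : Lft π a) (h2 : Lft π b) : Lft π (a * b) := by
  obtain ⟨x, hx, hxx⟩ := h1
  obtain ⟨y, hy, hyy⟩ := h2
  exact Lft.mul_of_comm hx hy hxx hyy (comm_of_commutator hc ha hx (by rw [hy]; exact hb) hs).symm

/-- **Odd relation**: an odd number of conjugates of `a` with commuting lifts and product one. -/
theorem lft_of_list (hs : Function.Surjective π) (hc : π.ker ≤ center L) (h2 : ∀ z ∈ π.ker, z * z = 1) {a : S}
    (ha : a * a = 1) (l : List L) (hl : ∀ y ∈ l, IsConj a (π y)) (hcm : ∀ y ∈ l, ∀ y' ∈ l, y * y' = y' * y)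
    (hodd : Odd l.length) (hprod : π l.prod = 1) : Lft π a := by
  obtain ⟨x, hx⟩ := hs a
  have hz : x * x ∈ π.ker := by rw [MonoidHom.mem_ker, map_mul, hx, ha]
  have key : ∀ l : List L, (∀ y ∈ l, IsConj a (π y)) → (∀ y ∈ l, ∀ y' ∈ l, y * y' = y' * y) →
      l.prod * l.prod = (x * x) ^ l.length := by
    intro l
    induction l with
    | nil => intro _ _; simp
    | cons y t ih =>
      intro h3 h4
      have h5 := ih (fun r hr => h3 r (List.mem_cons_of_mem _ hr))
        (fun r hr r' hr' => h4 r (List.mem_cons_of_mem _ hr) r' (List.mem_cons_of_mem _ hr'))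
      have h6 : y * t.prod = t.prod * y := by
        have h7 : ∀ r ∈ t, Commute y r := fun r hr => h4 y List.mem_cons_self r (List.mem_cons_of_mem _ hr)
        exact Commute.list_prod_right t y h7
      have h8 := sq_lift_eq hs hc h2 ha (h3 y List.mem_cons_self) hx rfl
      rw [List.prod_cons, List.length_cons, pow_succ]
      calc y * t.prod * (y * t.prod) = y * (t.prod * y) * t.prod := by group
        _ = (y * y) * (t.prod * t.prod) := by rw [← h6]; group
        _ = (x * x) * (x * x) ^ t.length := by rw [← h8, h5]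
        _ = _ := by rw [← pow_succ', pow_succ]
  have h3 := key l hl hcm
  have h4 : l.prod * l.prod = 1 := h2 _ hprod
  obtain ⟨k, hk⟩ := hodd
  refine ⟨x, hx, ?_⟩
  rw [h4, hk, pow_succ, pow_mul, pow_two, h2 _ hz, one_pow, one_mul] at h3
  exact h3.symm

/-- **Pure four-group.** -/
theorem lft_of_four (hs : Function.Surjective π) (hc : π.ker ≤ center L) (h2 : ∀ z ∈ π.ker, z * z = 1)
    {C : Subgroup S} {a b : S} (ha : a * a = 1) (hC : ∀ c ∈ C, c * a = a * c) (hb : b ∈ ⁅C, C⁆)
    (hab : IsConj a b) (habc : IsConj a (a * b)) : Lft π a := by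
  obtain ⟨x, hx⟩ := hs a
  obtain ⟨y, hy⟩ := hs b
  have h3 : y * x = x * y := comm_of_commutator hc hC hx (by rw [hy]; exact hb) hs
  have hbb : b * b = 1 := by
    obtain ⟨g, rfl⟩ := isConj_iff.1 hab
    rw [show g * a * g⁻¹ * (g * a * g⁻¹) = g * (a * a) * g⁻¹ by group, ha, mul_one, mul_inv_cancel]
  have hba : b * a = a * b := by rw [← hx, ← hy, ← map_mul, ← map_mul, h3]
  refine lft_of_list hs hc h2 ha [x, y, x * y] ?_ ?_ ⟨1, rfl⟩ ?_
  · intro r hr
    simp only [List.mem_cons, List.not_mem_nil, or_false] at hr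
    rcases hr with rfl | rfl | rfl
    · rw [hx]
    · rw [hy]; exact hab
    · rw [map_mul, hx, hy]; exact habc
  · intro r hr r' hr'
    simp only [List.mem_cons, List.not_mem_nil, or_false] at hr hr'
    have h4 : x * (x * y) = x * y * x := by rw [← h3]; rw [← mul_assoc, h3]; 
    have h5 : y * (x * y) = x * y * y := by rw [← mul_assoc, h3]
    rcases hr with rfl | rfl | rfl <;> rcases hr' with rfl | rfl | rfl
    · rfl
    · exact h3.symm
    · exact h4
    · exact h3
    · rfl
    · exact h5
    · exact h4.symm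
    · exact h5.symm
    · rfl
  · simp only [List.prod_cons, List.prod_nil, mul_one, map_mul, hx, hy]
    calc a * (b * (a * b)) = a * (b * a) * b := by group
      _ = (a * a) * (b * b) := by rw [hba]; group
      _ = 1 := by rw [ha, hbb, mul_one]

end Cfsg.Agent.H277.MI
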