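import Mathlib
import Cfsg.Agent.H277.EM.Cover
import Cfsg.Agent.H51.Tools
import Cfsg.Agent.KFacts.MulBaer

/-!
# S2243: every perfect central extension is a quotient of the Schur cover (helper277)
-/

set_option autoImplicit false

namespace Cfsg.Agent.H277.MI

open Subgroup Cfsg.Agent.H51.Mult
open scoped commutatorElement

universe u v w w'

/-- **Universal cover**: `σ : Γ → S` a perfect central extension whose kernel has (at least) the order of the Schur
multiplier of `S`; then every perfect central extension `π : L → S` is a quotient of `Γ` over `S`. -/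
theorem exists_cover_map {Γ : Type u} {L : Type w} {S : Type v} [Group Γ] [Group L] [Group S] [Finite Γ]
    {σ : Γ →* S} {π : L →* S} (hσ : PCE σ) (hπ : PCE π) {A : Type w'} [CommGroup A]
    (h : Cfsg.HasSchurMultiplier S A) (hc : Nat.card A ≤ Nat.card σ.ker) :
    ∃ f : Γ →* L, Function.Surjective f ∧ ∀ x, π (f x) = σ x := by
  have hfS : Finite S := Finite.of_surjective σ hσ.surj
  have hfL : Finite L := Cfsg.Agent.H487.finite_of_isStemExtension hπ.toStem
  let D := Cfsg.Agent.KFacts.MulBaer.fib σ π
  let q : D →* S := (σ.comp (MonoidHom.fst Γ L)).comp D.subtype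
  have hq : Function.Surjective q := by
    intro s
    obtain ⟨x, rfl⟩ := hσ.surj s
    obtain ⟨y, hy⟩ := hπ.surj (σ x)
    exact ⟨⟨(x, y), hy.symm⟩, rfl⟩
  have hqk : q.ker ≤ center D := by
    rintro ⟨⟨x, y⟩, hxy⟩ h1
    have hx : σ x = 1 := h1
    have hy : π y = 1 := by
      have : σ x = π y := hxy
      rw [← this, hx]
    rw [mem_center_iff]
    rintro ⟨⟨a, b⟩, hab⟩
    apply Subtype.ext
    apply Prod.ext
    · exact (hσ.comm hx a).symm
    · exact (hπ.comm hy b).symm
  have hD := Cfsg.Agent.H51.Tools.pce_of_central hq hqk hσ.perf_base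
  let p1 : commutator D →* Γ := ((MonoidHom.fst Γ L).comp D.subtype).comp (commutator D).subtype
  let p2 : commutator D →* L := ((MonoidHom.snd Γ L).comp D.subtype).comp (commutator D).subtype
  have hp1 : Function.Surjective p1 := by
    have h1 : Function.Surjective ((MonoidHom.fst Γ L).comp D.subtype) := by
      intro x
      obtain ⟨y, hy⟩ := hπ.surj (σ x)
      exact ⟨⟨(x, y), hy.symm⟩, rfl⟩
    intro x
    have h2 : x ∈ (commutator D).map ((MonoidHom.fst Γ L).comp D.subtype) := by
      rw [_root_.commutator_def, Subgroup.map_commutator, Subgroup.map_top_of_surjective _ h1,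
        ← _root_.commutator_def, hσ.perf]
      exact mem_top _
    obtain ⟨d, hd, hdx⟩ := h2
    exact ⟨⟨d, hd⟩, hdx⟩
  have hp2 : Function.Surjective p2 := by
    have h1 : Function.Surjective ((MonoidHom.snd Γ L).comp D.subtype) := by
      intro y
      obtain ⟨x, hx⟩ := hσ.surj (π y)
      exact ⟨⟨(x, y), hx⟩, rfl⟩
    intro x
    have h2 : x ∈ (commutator D).map ((MonoidHom.snd Γ L).comp D.subtype) := by
      rw [_root_.commutator_def, Subgroup.map_commutator, Subgroup.map_top_of_surjective _ h1,
        ← _root_.commutator_def, hπ.perf]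
      exact mem_top _
    obtain ⟨d, hd, hdx⟩ := h2
    exact ⟨⟨d, hd⟩, hdx⟩
  have hinj : Function.Injective p1 := by
    have hfA : Finite A := Cfsg.Agent.H487.finite_multiplier h
    have h1 : Nat.card (q.comp (commutator D).subtype).ker ≤ Nat.card A := by
      have := card_ker_dvd h hD
      exact Nat.le_of_dvd Nat.card_pos this
    have h2 : q.comp (commutator D).subtype = σ.comp p1 := rfl
    rw [h2] at h1
    -- `|ker (σ p1)| = |ker p1| |ker σ|`
    have h3 : Nat.card (commutator D) = Nat.card (σ.comp p1).ker * Nat.card S := by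
      rw [← Subgroup.card_mul_index (σ.comp p1).ker, Subgroup.index_ker,
        MonoidHom.range_eq_top.2 (show Function.Surjective (σ.comp p1) from hσ.surj.comp hp1), Subgroup.card_top]
    have h4 : Nat.card Γ = Nat.card σ.ker * Nat.card S := by
      rw [← Subgroup.card_mul_index σ.ker, Subgroup.index_ker, MonoidHom.range_eq_top.2 hσ.surj, Subgroup.card_top]
    have h5 : Nat.card (commutator D) ≤ Nat.card Γ := by
      rw [h3, h4]
      exact Nat.mul_le_mul_right _ (h1.trans hc)
    have h6 : Nat.card Γ ≤ Nat.card (commutator D) := Nat.card_le_card_of_surjective _ hp1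
    exact ((Nat.bijective_iff_surjective_and_card p1).2 ⟨hp1, le_antisymm h5 h6⟩).1
  let e : commutator D ≃* Γ := MulEquiv.ofBijective p1 ⟨hinj, hp1⟩
  refine ⟨p2.comp e.symm.toMonoidHom, hp2.comp e.symm.surjective, fun x => ?_⟩
  obtain ⟨d, rfl⟩ := e.surjective x
  show π (p2 (e.symm (e d))) = σ (e d)
  rw [e.symm_apply_apply]
  have h7 : σ d.1.1.1 = π d.1.1.2 := d.1.2
  exact h7.symm

/-- the cyclic case -/
theorem exists_cover_map_cyclic {Γ : Type u} {L : Type w} {S : Type v} [Group Γ] [Group L] [Group S] [Finite Γ]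
    {σ : Γ →* S} {π : L →* S} (hσ : PCE σ) (hπ : PCE π) {n : ℕ} (h : Cfsg.HasCyclicSchurMultiplier S n)
    (hc : n ≤ Nat.card σ.ker) : ∃ f : Γ →* L, Function.Surjective f ∧ ∀ x, π (f x) = σ x :=
  exists_cover_map hσ hπ h (by
    rwa [Nat.card_eq_of_bijective _ Multiplicative.toAdd.bijective, Nat.card_zmod])

end Cfsg.Agent.H277.MI
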