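import Cfsg.Agent.H277.EM.PsuEven
import Cfsg.Agent.H855.EM.Alt
import Cfsg.Agent.H963.EmPslOdd
import Cfsg.Agent.H889.EM.PsuOdd
import Cfsg.Agent.H682.EM.PspEven
import Cfsg.Agent.H889.EM.Psp
import Cfsg.Agent.H731.EM.OrthEvenRows
import Cfsg.Agent.H128.EMExc
import Cfsg.Agent.H151.EM.Final
import Cfsg.Agent.H86.EM.ExcE7
import Cfsg.Agent.H601.EM.FFour
import Cfsg.Agent.H531.EMExc
import Cfsg.Agent.H601.EM.TwESix
import Cfsg.Agent.H759.EM.SporOne
import Cfsg.Agent.H820.EM.Mathieu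
import Cfsg.Agent.H820.EM.JTwoHS
import Cfsg.Agent.H820.EM.HeRu
import Cfsg.Agent.H820.EM.JFour
import Cfsg.Agent.H820.EM.SuzCo3
import Cfsg.Agent.H820.EM.HN
import Cfsg.Agent.H820.EM.FiTF
import Cfsg.Agent.H820.EM.M
import Cfsg.Agent.H243.EMFi22
import Cfsg.Agent.H243.EMFi23
import Cfsg.Agent.H715.EM.Co
import Cfsg.Agent.H767.EM.Rows
import Cfsg.Agent.H731.EM.O8Plus
import Cfsg.Agent.H731.EM.PslEven

/-!
# S2243: all rows together (helper277)
-/

set_option autoImplicit false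

namespace Cfsg.Agent.H277.MI

open Cfsg.Agent.H277.MI

universe u

/-- all the rows -/
theorem rows
    (b : ∀ {L : Type u} [Group L] [Finite L] [IsSimpleGroup L], Cfsg.Spor.IsoB L → CRow L) :
    H151.EM.Rows.{u} where
  alt := fun h => H855.EMAlt.crow_alt h
  psl_even := fun hF _ hn h2 e => H731.EMO.crow_psl_even hF hn h2
    (H855.EMAlt.crow_alt ⟨8, by norm_num, ⟨MulEquiv.refl _⟩⟩) e
  psl_odd := fun hF _ hn h2 e => H963.EmPslOdd.crow_psl_odd hF hn h2 e
  psp_even := fun hF _ hm h2 e => H682.EM.crow_psp_even hF hm h2 e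
  psp_odd := fun hF _ hm e => H889.EMPsp.crow_psp_odd hF hm e
  psu_even := fun hF hq hn h3 h4 e => PsuEven.crow_psu_even hF hq hn h3 (fun h h' => absurd ⟨h, h'⟩ h4) e
  psu_odd := fun hF hq hn e => H889.EMPsu.crow_psu_odd hF hq hn e
  omega_odd := fun h => H767.EMA.crow_odd h
  plus_even := fun hF _ hm h e => H731.EMO.crow_plus_even hF hm h e
  o8plus2 := fun hF e => H731.EMO.crow_o8plus2 hF (H731.EMO.em_plus (by rw [hF]; exact even_two) le_rfl) e
  plus_odd := fun hF _ hm e => H767.EMA.crow_plus_odd hF hm e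
  minus_even := fun hF _ hm a b hab e => H731.EMO.crow_minus_even hF hm a b hab e
  minus_odd := fun hF _ hm a b hab e => H767.EMA.crow_minus_odd hF hm hab e
  g2_even := fun hF h3 e => H128.EMExc.crow_g2_even hF h3 e
  f4_even := fun hF e => H601.EM.FFour.crow_f4_even hF e
  e6_even := fun hF e => H531.EMExc.crow_e6_even hF e
  e7_even := fun hF e => H531.EMExc.crow_e7_even hF e
  e7_odd := fun hF e => H86.EM.crow_e7_odd hF e
  e8_even := fun hF e => H531.EMExc.crow_e8_even hF e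
  tw2e6_even := fun hK hq e => H601.EM.TwESix.crow_2e6_even hK hq e
  tw3d4_even := fun hK hq e => H128.EMExc.crow_3d4_even hK hq e
  sz := fun h => H128.EMExc.crow_sz h
  tw2f4 := fun h => H128.EMExc.crow_2f4 h
  tits := fun h => H128.EMExc.crow_tits h
  m11 := fun h => H759.EM.crow_m11 h
  m12 := fun h => H820.EM.crow_m12 h
  m22 := fun h => H759.EM.crow_m22 h
  m23 := fun h => H759.EM.crow_m23 h
  m24 := fun h => H820.EM.crow_m24 h
  j1 := fun h => H759.EM.crow_j1 h
  j2 := fun h => H820.EM.crow_j2 h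
  j3 := fun h => H759.EM.crow_j3 h
  j4 := fun h => H820.EM.crow_j4 h
  co1 := fun h => H715.EM.Co.crow_co1 h
  co2 := fun h => H715.EM.Co.crow_co2 h
  co3 := fun h => H820.EM.crow_co3 h
  mcl := fun h => H759.EM.crow_mcl h
  hs := fun h => H820.EM.crow_hs h
  suz := fun h => H820.EM.crow_suz h
  he := fun h => H820.EM.crow_he h
  ru := fun h => H820.EM.crow_ru h
  on := fun h => H759.EM.crow_on h
  ly := fun h => H759.EM.crow_ly h
  fi22 := fun h => H243.EMFi.crow_fi22 h
  fi23 := fun h => H243.EMFi.crow_fi23 h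
  fi24 := fun h => H820.EM.crow_fi24 h
  hn := fun h => H820.EM.crow_hn h
  th := fun h => H759.EM.crow_th h
  b := b
  m := fun h => H820.EM.crow_m h

end Cfsg.Agent.H277.MI
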